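import Groth.Agent.GrpQ.H765.GlueProps
import Groth.Agent.GrpQ.H766.AffineCase
import Groth.Agent.GrpQ.H766.GeomQuot
import Groth.Agent.Grpsch.Points
import Groth.Agent.S1881
import Groth.Prelude.Def_Mor2
import Mathlib.AlgebraicGeometry.Morphisms.UniversallyOpen
import Mathlib.AlgebraicGeometry.Morphisms.Flat

/-!
# Geometric quotients of finite locally free groupoids all of whose orbits lie in affine opens

* `exists_isGeomQuot`: the geometric quotient exists, with all its properties.
* `isAffine_of_isGeomQuot`: it is affine if `U` is.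
-/

set_option autoImplicit false
universe u
open CategoryTheory CategoryTheory.Limits AlgebraicGeometry TopologicalSpace

namespace Groth.Agent.GrpQ.H765.FinQuot

open Groth.Agent.GrpQ.H766.GeomQuotDef Groth.Agent.GrpQ.H765.Glue Groth.Agent.GrpQ.H765.GlueProps
open Groth.Agent.Grpsch.PtRestrict Groth.Agent.Grpsch Groth.Agent.Grpsch.Restrict
open Groth.Agent.GrpQ.H766

variable {S : Scheme.{u}} (G : Grpd.GroupoidScheme S)

theorem isFinLocFree_t (ha : Mor2.IsFinLocFree G.s) : Mor2.IsFinLocFree G.t := by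
  obtain ⟨h1, h2, h3⟩ := ha
  have := Points.isIso_i G
  rw [← G.i_s]
  exact ⟨inferInstance, inferInstance, inferInstance⟩

/-- In the affine case `R ⟶ U ×_Y U` is surjective. -/
theorem surjective_lift_toQuot [IsAffine G.U] [IsAffine G.R] [IsFinite G.s] [Flat G.s]
    [LocallyOfFinitePresentation G.s] [IsFinite G.t] [Flat G.t] [LocallyOfFinitePresentation G.t] :
    Function.Surjective (pullback.lift G.t G.s (AffGrpd.t_toQuot G)) := by
  intro z
  obtain ⟨k, _, _, g, hg⟩ := AffGrpd.exists_geomPoint _ z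
  obtain ⟨r, hr0, hr1⟩ := AffGrpd.exists_geomPoint_R G k (g ≫ pullback.fst _ _)
    (g ≫ pullback.snd _ _) (by rw [Category.assoc, pullback.condition, Category.assoc])
  refine ⟨r (IsLocalRing.closedPoint k), ?_⟩
  have : r ≫ pullback.lift G.t G.s (AffGrpd.t_toQuot G) = g := by
    apply pullback.hom_ext
    · rw [Category.assoc, pullback.lift_fst, hr0]
    · rw [Category.assoc, pullback.lift_snd, hr1]
  rw [← Scheme.Hom.comp_apply, this, hg]

theorem surjective_lift_of_comp {R R' U Y : Scheme.{u}} {a b : R ⟶ U} {p : U ⟶ Y}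
    (w : a ≫ p = b ≫ p) (f : R' ⟶ R) (hf : Function.Surjective f) {a' b' : R' ⟶ U}
    (w' : a' ≫ p = b' ≫ p) (ha : f ≫ a = a') (hb : f ≫ b = b')
    (h : Function.Surjective (pullback.lift a b w)) :
    Function.Surjective (pullback.lift a' b' w') := by
  have : pullback.lift a' b' w' = f ≫ pullback.lift a b w := by
    apply pullback.hom_ext
    · rw [Category.assoc, pullback.lift_fst, pullback.lift_fst, ha]
    · rw [Category.assoc, pullback.lift_snd, pullback.lift_snd, hb]
  rw [this, Scheme.Hom.comp_base]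
  exact h.comp hf

section affineOpen

variable (V : G.U.Opens) [IsFinite G.s] [Flat G.s]
    [LocallyOfFinitePresentation G.s] [IsFinite G.t] [Flat G.t] [LocallyOfFinitePresentation G.t]

theorem affineOpen (hV : G.s ⁻¹ᵁ V = G.t ⁻¹ᵁ V) (hVa : IsAffineOpen V) :
    IsGeomQuot (G.s ∣_ V) (tRes G.s G.t V hV) (restrict G V.ι).toQuot ∧
      IsIntegralHom (restrict G V.ι).toQuot ∧
      ∃ w, Function.Surjective
        (pullback.lift (f := (restrict G V.ι).toQuot) (g := (restrict G V.ι).toQuot)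
          (tRes G.s G.t V hV) (G.s ∣_ V) w) := by
  have h1 := AffineCase.isPullback_src G V hV
  have h2 := AffineCase.isPullback_tgt G V hV
  have i1 : IsFinite (restrict G V.ι).s := MorphismProperty.of_isPullback h1.flip ‹_›
  have i2 : Flat (restrict G V.ι).s := MorphismProperty.of_isPullback h1.flip ‹_›
  have i3 : LocallyOfFinitePresentation (restrict G V.ι).s :=
    MorphismProperty.of_isPullback h1.flip ‹_›
  have i4 : IsFinite (restrict G V.ι).t := MorphismProperty.of_isPullback h2.flip ‹_›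
  have i5 : Flat (restrict G V.ι).t := MorphismProperty.of_isPullback h2.flip ‹_›
  have i6 : LocallyOfFinitePresentation (restrict G V.ι).t :=
    MorphismProperty.of_isPullback h2.flip ‹_›
  have i7 : IsAffine (restrict G V.ι).U := hVa
  have i8 : IsAffine (restrict G V.ι).R := isAffine_of_isAffineHom (restrict G V.ι).s
  have h := AffineCase.isGeomQuot_toQuot (restrict G V.ι)
  have hh := AffineCase.isGeomQuot_tRes G V hV h
  refine ⟨hh, AffineCase.isIntegralHom_toQuot (restrict G V.ι), hh.w, ?_⟩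
  refine surjective_lift_of_comp (AffGrpd.t_toQuot (restrict G V.ι))
    (AffineCase.fromPreimage G V hV) ?_ hh.w (AffineCase.fromPreimage_tgt G V hV)
    (AffineCase.fromPreimage_src G V hV) (surjective_lift_toQuot (restrict G V.ι))
  intro r
  have hr : r ∈ (AffineCase.fromPreimage G V hV).opensRange := by
    rw [AffineCase.opensRange_fromPreimage]; trivial
  exact hr

end affineOpen

/-- The hypothesis on orbits. -/
theorem locallyGood (ha : Mor2.IsFinLocFree G.s)
    (hb : ∀ x : G.U, ∃ V : G.U.Opens, IsAffineOpen V ∧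
      G.t.base '' (G.s.base ⁻¹' {x}) ⊆ (V : Set G.U)) :
    LocallyGood G.s G.t (fun V hV Y' p' => IsAffineOpen V ∧ IsAffine Y' ∧ IsIntegralHom p' ∧
      ∃ w : tRes G.s G.t V hV ≫ p' = (G.s ∣_ V) ≫ p',
        Function.Surjective (pullback.lift (tRes G.s G.t V hV) (G.s ∣_ V) w)) := by
  obtain ⟨h1, h2, h3⟩ := id ha
  obtain ⟨h4, h5, h6⟩ := isFinLocFree_t G ha
  intro x
  obtain ⟨V, hVa, hV⟩ := hb x
  obtain ⟨W, hWa, hxW, hW⟩ := Groth.Agent.S1881.result S G x V hVa (fun r hr => hV ⟨r, hr, rfl⟩)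
  obtain ⟨k1, k2, k3⟩ := affineOpen G W hW hWa
  exact ⟨W, hW, _, _, hxW, k1, hWa, inferInstance, k2, k3⟩

/-- Existence of geometric quotients of finite locally free groupoids whose orbits lie in affine
opens. -/
theorem exists_isGeomQuot (ha : Mor2.IsFinLocFree G.s)
    (hb : ∀ x : G.U, ∃ V : G.U.Opens, IsAffineOpen V ∧
      G.t.base '' (G.s.base ⁻¹' {x}) ⊆ (V : Set G.U)) :
    ∃ (Y : Scheme.{u}) (p : G.U ⟶ Y) (h : IsGeomQuot G.s G.t p), IsIntegralHom p ∧
      Surjective p ∧ IsOpenMap p ∧ Function.Surjective (pullback.lift G.t G.s h.w) := by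
  obtain ⟨h4, h5, h6⟩ := isFinLocFree_t G ha
  have H := locallyGood G ha hb
  obtain ⟨Y, p, h⟩ := H.exists_isGeomQuot
  refine ⟨Y, p, h, ?_, ⟨h.surjective⟩, isOpenMap_of_isOpenMap h G.t.isOpenMap, ?_⟩
  · refine of_local @IsIntegralHom h (fun x => ?_)
    obtain ⟨V, hV, Y', p', k1, k2, k3, k4, k5, k6⟩ := H x
    exact ⟨V, hV, Y', p', k1, k2, k5⟩
  · refine surjective_lift_of_local h (fun x => ?_)
    obtain ⟨V, hV, Y', p', k1, k2, k3, k4, k5, k6⟩ := H x
    exact ⟨V, hV, Y', p', k1, k2, k6⟩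

theorem isAffine_of_isGeomQuot (ha : Mor2.IsFinLocFree G.s) [IsAffine G.U] {Y : Scheme.{u}}
    {p : G.U ⟶ Y} (h : IsGeomQuot G.s G.t p) : IsAffine Y := by
  obtain ⟨h1, h2, h3⟩ := id ha
  obtain ⟨h4, h5, h6⟩ := isFinLocFree_t G ha
  have : IsAffine G.R := isAffine_of_isAffineHom G.s
  obtain ⟨e, -⟩ := exists_iso h (AffineCase.isGeomQuot_toQuot G)
  exact IsAffine.of_isIso e.hom

end Groth.Agent.GrpQ.H765.FinQuot
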