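import Groth.Agent.GrpQ.H766.GeomQuotLocal
import Groth.Agent.Grpsch.PtRestrict
import Mathlib.AlgebraicGeometry.Cover.Directed

/-!
# Gluing of geometric quotients over invariant open subschemes

`Good s t V`: the invariant open `V` of `U` has a geometric quotient.
* `exists_isGeomQuot`: if the good opens cover `U` then `U` has a geometric quotient.
* `IsGeomQuot.exists_opens`: invariant opens are preimages of opens.
* `IsGeomQuot.restrictOpens`: restriction of a geometric quotient to an invariant open.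
* `IsGeomQuot.of_local`: properties of the quotient map which are local on the target.
-/

set_option autoImplicit false
universe u
open CategoryTheory CategoryTheory.Limits AlgebraicGeometry TopologicalSpace

namespace Groth.Agent.GrpQ.H765.Glue

open Groth.Agent.GrpQ.H766.GeomQuotDef
open Groth.Agent.Grpsch.PtRestrict

variable {R U : Scheme.{u}} (s t : R ⟶ U)

/-- the invariant open `V` has a geometric quotient -/
structure Good (V : U.Opens) : Prop where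
  inv : s ⁻¹ᵁ V = t ⁻¹ᵁ V
  ex : ∃ (Y : Scheme.{u}) (p : (V : Scheme.{u}) ⟶ Y), IsGeomQuot (s ∣_ V) (tRes s t V inv) p

variable {s t}

/-- An invariant open of `U` is the preimage of an open of the quotient. -/
theorem exists_opens {Y : Scheme.{u}} {p : U ⟶ Y} (h : IsGeomQuot s t p) (O : U.Opens)
    (hO : s ⁻¹ᵁ O = t ⁻¹ᵁ O) : ∃ W : Y.Opens, p ⁻¹ᵁ W = O := by
  have hpre : p ⁻¹' (p '' (O : Set U)) = (O : Set U) := by
    apply Set.Subset.antisymm
    · rintro y ⟨x, hx, hxy⟩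
      obtain ⟨r, hr1, hr2⟩ := h.rel x y hxy
      have h1 : r ∈ t ⁻¹ᵁ O := by
        show t r ∈ O
        rw [hr1]; exact hx
      rw [← hO] at h1
      have h2 : s r ∈ O := h1
      rwa [hr2] at h2
    · exact Set.subset_preimage_image _ _
  have hopen : IsOpen (p '' (O : Set U)) := by
    rw [← h.isQuotientMap.isOpen_preimage, hpre]
    exact O.isOpen
  refine ⟨⟨p '' (O : Set U), hopen⟩, ?_⟩
  ext x
  exact Set.ext_iff.mp hpre x

theorem sRes_homOfLE {V V' : U.Opens} (h : V ≤ V') :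
    R.homOfLE (s.preimage_mono h) ≫ (s ∣_ V') = (s ∣_ V) ≫ U.homOfLE h := by
  rw [← cancel_mono V'.ι]
  simp

theorem tRes_homOfLE {V V' : U.Opens} (h : V ≤ V') (hV : s ⁻¹ᵁ V = t ⁻¹ᵁ V)
    (hV' : s ⁻¹ᵁ V' = t ⁻¹ᵁ V') :
    R.homOfLE (s.preimage_mono h) ≫ tRes s t V' hV' = tRes s t V hV ≫ U.homOfLE h := by
  rw [← cancel_mono V'.ι, Category.assoc, Category.assoc, tRes_ι_hom, Scheme.homOfLE_ι,
    tRes_ι_hom, Scheme.homOfLE_ι_assoc]

/-- Restriction of a geometric quotient of `V'` to an invariant open `V ≤ V'`. -/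
theorem restrictOpens {V V' : U.Opens} (h : V ≤ V') (hV : s ⁻¹ᵁ V = t ⁻¹ᵁ V)
    (hV' : s ⁻¹ᵁ V' = t ⁻¹ᵁ V') {Y' : Scheme.{u}} {p' : (V' : Scheme.{u}) ⟶ Y'}
    (hp' : IsGeomQuot (s ∣_ V') (tRes s t V' hV') p') :
    ∃ (W : Y'.Opens) (p : (V : Scheme.{u}) ⟶ W), IsGeomQuot (s ∣_ V) (tRes s t V hV) p ∧
      p ≫ W.ι = U.homOfLE h ≫ p' := by
  have hrange : (U.homOfLE h).opensRange = V'.ι ⁻¹ᵁ V := by
    ext x
    constructor
    · rintro ⟨y, rfl⟩
      have : (U.homOfLE h ≫ V'.ι) y ∈ V := by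
        rw [Scheme.homOfLE_ι]
        exact y.2
      exact this
    · intro hx
      refine ⟨⟨x.1, hx⟩, ?_⟩
      apply V'.ι.isOpenEmbedding.injective
      rw [← Scheme.Hom.comp_apply, Scheme.homOfLE_ι]
      rfl
  have hinv : (s ∣_ V') ⁻¹ᵁ (U.homOfLE h).opensRange = (tRes s t V' hV') ⁻¹ᵁ (U.homOfLE h).opensRange := by
    rw [hrange, ← Scheme.Hom.comp_preimage, ← Scheme.Hom.comp_preimage, morphismRestrict_ι, tRes_ι_hom,
      Scheme.Hom.comp_preimage, Scheme.Hom.comp_preimage, hV]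
  obtain ⟨W, hW⟩ := exists_opens hp' _ hinv
  have hr : Set.range (U.homOfLE h ≫ p') ⊆ Set.range W.ι := by
    rintro _ ⟨x, rfl⟩
    rw [Scheme.Opens.range_ι]
    have : U.homOfLE h x ∈ p' ⁻¹ᵁ W := by
      rw [hW]
      exact ⟨x, rfl⟩
    exact this
  refine ⟨W, IsOpenImmersion.lift W.ι (U.homOfLE h ≫ p') hr, ?_, IsOpenImmersion.lift_fac _ _ _⟩
  refine hp'.restrict (R.homOfLE (s.preimage_mono h)) (U.homOfLE h) W.ι _ _ _ (sRes_homOfLE h)
    (tRes_homOfLE h hV hV') (IsOpenImmersion.lift_fac _ _ _).symm ?_ ?_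
  · rw [Scheme.Opens.opensRange_ι, hW]
  · rw [hrange, ← Scheme.Hom.comp_preimage, morphismRestrict_ι]
    ext x
    constructor
    · rintro ⟨y, rfl⟩
      have : (R.homOfLE (s.preimage_mono h) ≫ (s ⁻¹ᵁ V').ι) y ∈ s ⁻¹ᵁ V := by
        rw [Scheme.homOfLE_ι]
        exact y.2
      exact this
    · intro hx
      refine ⟨⟨x.1, hx⟩, ?_⟩
      apply (s ⁻¹ᵁ V').ι.isOpenEmbedding.injective
      rw [← Scheme.Hom.comp_apply, Scheme.homOfLE_ι]
      rfl

theorem Good.of_le {V V' : U.Opens} (h : V ≤ V') (hV : s ⁻¹ᵁ V = t ⁻¹ᵁ V) (h' : Good s t V') :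
    Good s t V := by
  obtain ⟨Y', p', hp'⟩ := h'.ex
  obtain ⟨W, p, hp, -⟩ := restrictOpens h hV h'.inv hp'
  exact ⟨hV, _, p, hp⟩

theorem Good.inf {V V' : U.Opens} (h : Good s t V) (h' : Good s t V') : Good s t (V ⊓ V') := by
  refine h.of_le inf_le_left ?_
  rw [Scheme.Hom.preimage_inf, Scheme.Hom.preimage_inf, h.inv, h'.inv]

/-- uniqueness of geometric quotients -/
theorem exists_iso {Y Y' : Scheme.{u}} {p : U ⟶ Y} {p' : U ⟶ Y'} (h : IsGeomQuot s t p)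
    (h' : IsGeomQuot s t p') : ∃ e : Y ≅ Y', p ≫ e.hom = p' := by
  have := h.epi
  have := h'.epi
  obtain ⟨a, ha, -⟩ := h.existsUnique_desc p' h'.w
  obtain ⟨b, hb, -⟩ := h'.existsUnique_desc p h.w
  refine ⟨⟨a, b, ?_, ?_⟩, ha⟩
  · rw [← cancel_epi p, reassoc_of% ha, hb, Category.comp_id]
  · rw [← cancel_epi p', reassoc_of% hb, ha, Category.comp_id]

variable (s t)

/-- the index category of the gluing -/
abbrev J : Type u := {V : U.Opens // Good s t V}

variable {s t}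

/-- chosen quotients -/
noncomputable def Yq (V : J s t) : Scheme.{u} := V.2.ex.choose

/-- chosen quotients -/
noncomputable def pq (V : J s t) : (V.1 : Scheme.{u}) ⟶ Yq V := V.2.ex.choose_spec.choose

theorem isGeomQuot_pq (V : J s t) : IsGeomQuot (s ∣_ V.1) (tRes s t V.1 V.2.inv) (pq V) :=
  V.2.ex.choose_spec.choose_spec

instance (V : J s t) : Epi (pq V) := (isGeomQuot_pq V).epi

theorem trans_w {V V' : J s t} (h : V.1 ≤ V'.1) :
    tRes s t V.1 V.2.inv ≫ U.homOfLE h ≫ pq V' = (s ∣_ V.1) ≫ U.homOfLE h ≫ pq V' := by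
  rw [← Category.assoc, ← Category.assoc, ← tRes_homOfLE h V.2.inv V'.2.inv, ← sRes_homOfLE h,
    Category.assoc, Category.assoc, (isGeomQuot_pq V').w]

/-- transition maps -/
noncomputable def trans {V V' : J s t} (h : V.1 ≤ V'.1) : Yq V ⟶ Yq V' :=
  ((isGeomQuot_pq V).existsUnique_desc _ (trans_w h)).choose

@[reassoc]
theorem pq_trans {V V' : J s t} (h : V.1 ≤ V'.1) : pq V ≫ trans h = U.homOfLE h ≫ pq V' :=
  ((isGeomQuot_pq V).existsUnique_desc _ (trans_w h)).choose_spec.1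

instance {V V' : J s t} (h : V.1 ≤ V'.1) : IsOpenImmersion (trans h) := by
  obtain ⟨W, p, hp, hpW⟩ := restrictOpens h V.2.inv V'.2.inv (isGeomQuot_pq V')
  obtain ⟨e, he⟩ := exists_iso (isGeomQuot_pq V) hp
  have : trans h = e.hom ≫ W.ι := by
    rw [← cancel_epi (pq V), pq_trans, ← Category.assoc, he, hpW]
  rw [this]
  infer_instance

variable (s t) in
/-- the diagram of the quotients -/
noncomputable abbrev F : J s t ⥤ Scheme.{u} where
  obj V := Yq V
  map f := trans (leOfHom f)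
  map_id V := by
    rw [← cancel_epi (pq V), pq_trans]
    simp
  map_comp f g := by
    rw [← cancel_epi (pq _), pq_trans, pq_trans_assoc, pq_trans, Scheme.homOfLE_homOfLE_assoc]

instance {V V' : J s t} (f : V ⟶ V') : IsOpenImmersion ((F s t).map f) :=
  inferInstanceAs (IsOpenImmersion (trans (leOfHom f)))

/-- two points of `V` with the same image in the quotient: invariant opens containing one contain the
other -/
theorem mem_of_pq_eq {V : J s t} {x y : (V.1 : Scheme.{u})} (hxy : pq V x = pq V y) {W : U.Opens}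
    (hW : s ⁻¹ᵁ W = t ⁻¹ᵁ W) (hx : x.1 ∈ W) : y.1 ∈ W := by
  obtain ⟨r, hr1, hr2⟩ := (isGeomQuot_pq V).rel x y hxy
  have h1 : t ((s ⁻¹ᵁ V.1).ι r) = x.1 := by rw [← tRes_ι s t V.1 V.2.inv, hr1]; rfl
  have h2 : s ((s ⁻¹ᵁ V.1).ι r) = y.1 := by rw [← sRes_ι, hr2]; rfl
  have h3 : (s ⁻¹ᵁ V.1).ι r ∈ t ⁻¹ᵁ W := by
    show t _ ∈ W
    rw [h1]; exact hx
  rw [← hW] at h3
  have h4 : s ((s ⁻¹ᵁ V.1).ι r) ∈ W := h3
  rwa [h2] at h4

theorem pq_eq_of_pq_eq {V V' : J s t} {x y : (V.1 : Scheme.{u})} (hxy : pq V x = pq V y)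
    (hx : x.1 ∈ V'.1) (hy : y.1 ∈ V'.1) : pq V' ⟨x.1, hx⟩ = pq V' ⟨y.1, hy⟩ := by
  obtain ⟨r, hr1, hr2⟩ := (isGeomQuot_pq V).rel x y hxy
  have h1 : t ((s ⁻¹ᵁ V.1).ι r) = x.1 := by rw [← tRes_ι s t V.1 V.2.inv, hr1]; rfl
  have h2 : s ((s ⁻¹ᵁ V.1).ι r) = y.1 := by rw [← sRes_ι, hr2]; rfl
  let r' : (s ⁻¹ᵁ V'.1 : R.Opens).toScheme := ⟨(s ⁻¹ᵁ V.1).ι r, by
    show s _ ∈ V'.1
    rw [h2]; exact hy⟩
  have h3 : tRes s t V'.1 V'.2.inv r' = ⟨x.1, hx⟩ := by
    apply V'.1.ι.isOpenEmbedding.injective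
    rw [tRes_ι]
    exact h1
  have h4 : (s ∣_ V'.1) r' = ⟨y.1, hy⟩ := by
    apply V'.1.ι.isOpenEmbedding.injective
    rw [sRes_ι]
    exact h2
  rw [← h3, ← h4, ← Scheme.Hom.comp_apply, ← Scheme.Hom.comp_apply, (isGeomQuot_pq V').w]

theorem trans_pq_apply {V V' : J s t} (h : V.1 ≤ V'.1) (x : (V.1 : Scheme.{u})) :
    trans h (pq V x) = pq V' ⟨x.1, h x.2⟩ := by
  rw [← Scheme.Hom.comp_apply, pq_trans, Scheme.Hom.comp_apply]
  congr 1
  apply V'.1.ι.isOpenEmbedding.injective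
  rw [← Scheme.Hom.comp_apply, Scheme.homOfLE_ι]
  rfl

instance : (F s t ⋙ Scheme.forget).IsLocallyDirected where
  cond {i j k} fi fj xi xj hx := by
    obtain ⟨ui, rfl⟩ := (isGeomQuot_pq i).surjective xi
    obtain ⟨uj, rfl⟩ := (isGeomQuot_pq j).surjective xj
    have hx' : trans (leOfHom fi) (pq i ui) = trans (leOfHom fj) (pq j uj) := hx
    rw [trans_pq_apply, trans_pq_apply] at hx'
    have h1 : uj.1 ∈ i.1 := mem_of_pq_eq hx' i.2.inv ui.2
    let l : J s t := ⟨i.1 ⊓ j.1, i.2.inf j.2⟩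
    have hl1 : l ≤ i := (inf_le_left : i.1 ⊓ j.1 ≤ i.1)
    have hl2 : l ≤ j := (inf_le_right : i.1 ⊓ j.1 ≤ j.1)
    refine ⟨l, homOfLE hl1, homOfLE hl2, pq l ⟨uj.1, h1, uj.2⟩, ?_, ?_⟩
    · show trans _ (pq l _) = _
      rw [trans_pq_apply]
      exact (pq_eq_of_pq_eq hx' ui.2 h1).symm
    · show trans _ (pq l _) = _
      rw [trans_pq_apply]
      rfl

variable (s t) in
/-- the cover of `U` by the good opens -/
noncomputable abbrev cover (hcov : ∀ x : U, ∃ V : U.Opens, x ∈ V ∧ Good s t V) : U.OpenCover where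
  I₀ := J s t
  X V := V.1
  f V := V.1.ι
  mem₀ := by
    rw [Scheme.presieve₀_mem_precoverage_iff]
    refine ⟨fun x ↦ ?_, inferInstance⟩
    obtain ⟨V, hxV, hV⟩ := hcov x
    exact ⟨⟨V, hV⟩, ⟨x, hxV⟩, rfl⟩

instance (hcov : ∀ x : U, ∃ V : U.Opens, x ∈ V ∧ Good s t V) : Preorder (cover s t hcov).I₀ :=
  inferInstanceAs (Preorder (J s t))

noncomputable instance (hcov : ∀ x : U, ∃ V : U.Opens, x ∈ V ∧ Good s t V) :
    (cover s t hcov).LocallyDirected where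
  trans {i j} hij := U.homOfLE (leOfHom hij)
  trans_id i := by
    simp
  trans_comp {i j k} hij hjk := by
    simp
  w {i j} hij := by simp
  directed {i j} x := by
    let i' : J s t := i
    let j' : J s t := j
    let u : U := (pullback.fst i'.1.ι j'.1.ι ≫ i'.1.ι) x
    have hui : u ∈ i'.1 := ((pullback.fst i'.1.ι j'.1.ι) x).2
    have huj : u ∈ j'.1 := by
      have h1 : u = (pullback.snd i'.1.ι j'.1.ι ≫ j'.1.ι) x := by
        show (pullback.fst i'.1.ι j'.1.ι ≫ i'.1.ι) x = _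
        rw [pullback.condition]
      rw [h1]
      exact ((pullback.snd i'.1.ι j'.1.ι) x).2
    let l : J s t := ⟨i'.1 ⊓ j'.1, i'.2.inf j'.2⟩
    have hl1 : l ≤ i' := (inf_le_left : i'.1 ⊓ j'.1 ≤ i'.1)
    have hl2 : l ≤ j' := (inf_le_right : i'.1 ⊓ j'.1 ≤ j'.1)
    refine ⟨l, homOfLE hl1, homOfLE hl2, (⟨u, hui, huj⟩ : l.1), ?_⟩
    apply (pullback.fst i'.1.ι j'.1.ι ≫ i'.1.ι).isOpenEmbedding.injective
    rw [← Scheme.Hom.comp_apply]
    have h2 : pullback.lift (U.homOfLE hl1) (U.homOfLE hl2) (by simp) ≫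
        pullback.fst i'.1.ι j'.1.ι ≫ i'.1.ι = l.1.ι := by
      rw [pullback.lift_fst_assoc, Scheme.homOfLE_ι]
    exact congrArg (fun g : (l.1 : Scheme.{u}) ⟶ U => g ⟨u, hui, huj⟩) h2

theorem glued_aux (hcov : ∀ x : U, ∃ V : U.Opens, x ∈ V ∧ Good s t V)
    {i j : (cover s t hcov).I₀} (hij : i ⟶ j) :
    Scheme.Cover.trans (cover s t hcov) hij ≫ pq (s := s) (t := t) j ≫ colimit.ι (F s t) j =
      pq (s := s) (t := t) i ≫ colimit.ι (F s t) i := by
  have h1 := colimit.w (F s t) hij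
  rw [← h1]
  exact (pq_trans_assoc (leOfHom hij) _).symm

/-- the glued quotient map -/
noncomputable def glued (hcov : ∀ x : U, ∃ V : U.Opens, x ∈ V ∧ Good s t V) :
    U ⟶ colimit (F s t) :=
  (cover s t hcov).glueMorphismsOfLocallyDirected
    (fun V => pq (s := s) (t := t) V ≫ colimit.ι (F s t) V) (glued_aux hcov)

@[reassoc]
theorem ι_glued (hcov : ∀ x : U, ∃ V : U.Opens, x ∈ V ∧ Good s t V) (V : J s t) :
    V.1.ι ≫ glued hcov = pq V ≫ colimit.ι (F s t) V :=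
  (cover s t hcov).map_glueMorphismsOfLocallyDirected
    (fun V => pq (s := s) (t := t) V ≫ colimit.ι (F s t) V) (glued_aux hcov) V

theorem glued_w (hcov : ∀ x : U, ∃ V : U.Opens, x ∈ V ∧ Good s t V) :
    t ≫ glued hcov = s ≫ glued hcov := by
  apply Scheme.hom_ext_of_forall
  intro r
  obtain ⟨V, hxV, hV⟩ := hcov (s r)
  refine ⟨s ⁻¹ᵁ V, hxV, ?_⟩
  rw [← Category.assoc, ← Category.assoc, ← tRes_ι_hom s t V hV.inv, ← morphismRestrict_ι,
    Category.assoc, Category.assoc]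
  have h1 := ι_glued hcov ⟨V, hV⟩
  rw [h1, ← Category.assoc, ← Category.assoc]
  congr 1
  exact (isGeomQuot_pq ⟨V, hV⟩).w

theorem opensRange_eq (hcov : ∀ x : U, ∃ V : U.Opens, x ∈ V ∧ Good s t V) (V : J s t) :
    V.1.ι.opensRange = glued hcov ⁻¹ᵁ (colimit.ι (F s t) V).opensRange := by
  rw [Scheme.Opens.opensRange_ι]
  ext u
  constructor
  · intro hu
    refine ⟨pq V ⟨u, hu⟩, ?_⟩
    rw [← Scheme.Hom.comp_apply, ← ι_glued hcov]
    rfl
  · rintro ⟨y, hy⟩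
    obtain ⟨V', hu, hV'⟩ := hcov u
    let V'' : J s t := ⟨V', hV'⟩
    have h1 : colimit.ι (F s t) V'' (pq V'' ⟨u, hu⟩) = colimit.ι (F s t) V y := by
      rw [hy, ← Scheme.Hom.comp_apply, ← ι_glued hcov]
      rfl
    rw [Scheme.IsLocallyDirected.ι_eq_ι_iff] at h1
    obtain ⟨k, fi, fj, x, hx1, hx2⟩ := h1
    obtain ⟨z, rfl⟩ := (isGeomQuot_pq k).surjective x
    have h2 : trans (leOfHom fi) (pq k z) = pq V'' ⟨u, hu⟩ := hx1
    rw [trans_pq_apply] at h2
    exact leOfHom fj (mem_of_pq_eq h2 k.2.inv z.2)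

theorem isGeomQuot_glued (hcov : ∀ x : U, ∃ V : U.Opens, x ∈ V ∧ Good s t V) :
    IsGeomQuot s t (glued hcov) := by
  refine IsGeomQuot.of_openCover s t (glued hcov) (glued_w hcov) (ι := J s t)
    (fun V => (s ⁻¹ᵁ V.1 : R.Opens)) (fun V => V.1) (fun V => Yq V)
    (fun V => (s ⁻¹ᵁ V.1).ι) (fun V => V.1.ι) (fun V => colimit.ι (F s t) V)
    (fun V => s ∣_ V.1) (fun V => tRes s t V.1 V.2.inv) (fun V => pq V) ?_ ?_ ?_ ?_ ?_ ?_ ?_
  · intro V
    exact (morphismRestrict_ι _ _).symm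
  · intro V
    exact (tRes_ι_hom s t V.1 V.2.inv).symm
  · intro V
    exact ι_glued hcov V
  · intro V
    exact opensRange_eq hcov V
  · intro V
    rw [Scheme.Opens.opensRange_ι, Scheme.Opens.opensRange_ι]
  · intro y
    obtain ⟨V, y', hy⟩ := Scheme.IsLocallyDirected.ι_jointly_surjective (F s t) y
    exact ⟨V, y', hy⟩
  · intro V
    exact isGeomQuot_pq V

/-- **Gluing of geometric quotients.** If `U` is covered by invariant opens which have a geometric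
quotient then `U` has a geometric quotient. -/
theorem exists_isGeomQuot (hcov : ∀ x : U, ∃ V : U.Opens, x ∈ V ∧ Good s t V) :
    ∃ (Y : Scheme.{u}) (p : U ⟶ Y), IsGeomQuot s t p :=
  ⟨_, glued hcov, isGeomQuot_glued hcov⟩

end Groth.Agent.GrpQ.H765.Glue
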