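import Groth.Agent.GrpQ.H765.Glue
import Mathlib.AlgebraicGeometry.PullbackCarrier

/-!
# Gluing of geometric quotients: local properties

* `restrictTop`: restriction of a geometric quotient to an invariant open.
* `of_local`: properties of the quotient map which are local on the target.
* `surjective_lift_of_local`: surjectivity of `R ⟶ U ×_Y U`.
* `isPullback_of_local`: the square `t, s, p, p` is cartesian if this holds locally.
* `isOpenMap_of_isOpenMap`: `p` is open if `t` is.
-/

set_option autoImplicit false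
universe u
open CategoryTheory CategoryTheory.Limits AlgebraicGeometry TopologicalSpace

namespace Groth.Agent.GrpQ.H765.GlueProps

open Groth.Agent.GrpQ.H766.GeomQuotDef Groth.Agent.GrpQ.H765.Glue
open Groth.Agent.Grpsch.PtRestrict

variable {R U Y : Scheme.{u}} {s t : R ⟶ U} {p : U ⟶ Y}

/-- Restriction of a geometric quotient to an invariant open. -/
theorem restrictTop (h : IsGeomQuot s t p) (V : U.Opens) (hV : s ⁻¹ᵁ V = t ⁻¹ᵁ V) :
    ∃ (W : Y.Opens) (p' : (V : Scheme.{u}) ⟶ W), p ⁻¹ᵁ W = V ∧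
      IsGeomQuot (s ∣_ V) (tRes s t V hV) p' ∧ p' ≫ W.ι = V.ι ≫ p := by
  obtain ⟨W, hW⟩ := exists_opens h V hV
  have hr : Set.range (V.ι ≫ p) ⊆ Set.range W.ι := by
    rintro _ ⟨x, rfl⟩
    rw [Scheme.Opens.range_ι]
    have : V.ι x ∈ p ⁻¹ᵁ W := by
      rw [hW]
      exact x.2
    exact this
  refine ⟨W, IsOpenImmersion.lift W.ι (V.ι ≫ p) hr, hW, ?_, IsOpenImmersion.lift_fac _ _ _⟩
  refine h.restrict (s ⁻¹ᵁ V).ι V.ι W.ι _ _ _ (morphismRestrict_ι s V).symm
    (tRes_ι_hom s t V hV).symm (IsOpenImmersion.lift_fac _ _ _).symm ?_ ?_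
  · rw [Scheme.Opens.opensRange_ι, Scheme.Opens.opensRange_ι, hW]
  · rw [Scheme.Opens.opensRange_ι, Scheme.Opens.opensRange_ι]

/-- Comparison of a geometric quotient with the geometric quotient of an invariant open. -/
theorem exists_openImmersion (h : IsGeomQuot s t p) (V : U.Opens) (hV : s ⁻¹ᵁ V = t ⁻¹ᵁ V)
    {Y' : Scheme.{u}} {p' : (V : Scheme.{u}) ⟶ Y'} (hp' : IsGeomQuot (s ∣_ V) (tRes s t V hV) p') :
    ∃ (j : Y' ⟶ Y) (_ : IsOpenImmersion j), p' ≫ j = V.ι ≫ p ∧ p ⁻¹ᵁ j.opensRange = V := by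
  obtain ⟨W, p'', hW, hp'', hpW⟩ := restrictTop h V hV
  obtain ⟨e, he⟩ := exists_iso hp' hp''
  refine ⟨e.hom ≫ W.ι, inferInstance, ?_, ?_⟩
  · rw [← Category.assoc, he, hpW]
  · rw [Scheme.Hom.opensRange_comp_of_isIso, Scheme.Opens.opensRange_ι, hW]

/-- A commutative square of open immersions which is cartesian on the level of sets is cartesian. -/
theorem isPullback_of_opensRange {A B C D : Scheme.{u}} (i : A ⟶ B) (k : C ⟶ D) [IsOpenImmersion i]
    [IsOpenImmersion k] (f : B ⟶ D) (f' : A ⟶ C) (h : f' ≫ k = i ≫ f)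
    (hr : f ⁻¹ᵁ k.opensRange = i.opensRange) : IsPullback i f' f k := by
  refine ⟨⟨h.symm⟩, ⟨PullbackCone.IsLimit.mk _ (fun c => IsOpenImmersion.lift i c.fst ?_)
    ?_ ?_ ?_⟩⟩
  · rintro _ ⟨x, rfl⟩
    have h1 : c.fst x ∈ i.opensRange := by
      rw [← hr]
      show f (c.fst x) ∈ k.opensRange
      rw [← Scheme.Hom.comp_apply, c.condition]
      exact ⟨c.snd x, rfl⟩
    exact h1
  · intro c
    exact IsOpenImmersion.lift_fac _ _ _
  · intro c
    rw [← cancel_mono k, Category.assoc, h, IsOpenImmersion.lift_fac_assoc, c.condition]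
  · intro c m hm _
    rw [← cancel_mono i, hm, IsOpenImmersion.lift_fac]

theorem isOpenMap_of_isOpenMap (h : IsGeomQuot s t p) (ht : IsOpenMap t) : IsOpenMap p := by
  intro O hO
  rw [← h.isQuotientMap.isOpen_preimage]
  have : p ⁻¹' (p '' O) = t '' (s ⁻¹' O) := by
    ext x
    constructor
    · rintro ⟨y, hy, hxy⟩
      obtain ⟨r, hr1, hr2⟩ := h.rel x y hxy.symm
      exact ⟨r, by rw [Set.mem_preimage, hr2]; exact hy, hr1⟩
    · rintro ⟨r, hr, rfl⟩
      exact ⟨s r, hr, (h.apply_eq r).symm⟩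
  rw [this]
  exact ht _ (hO.preimage s.continuous)

/-- the local hypothesis: every point has an invariant open neighbourhood with a geometric quotient
satisfying `Q`. -/
def LocallyGood (s t : R ⟶ U)
    (Q : ∀ (V : U.Opens) (_ : s ⁻¹ᵁ V = t ⁻¹ᵁ V) (Y' : Scheme.{u}) (_ : (V : Scheme.{u}) ⟶ Y'), Prop) :
    Prop :=
  ∀ x : U, ∃ (V : U.Opens) (hV : s ⁻¹ᵁ V = t ⁻¹ᵁ V) (Y' : Scheme.{u}) (p' : (V : Scheme.{u}) ⟶ Y'),
    x ∈ V ∧ IsGeomQuot (s ∣_ V) (tRes s t V hV) p' ∧ Q V hV Y' p'

theorem LocallyGood.exists_isGeomQuot {Q} (H : LocallyGood s t Q) :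
    ∃ (Y : Scheme.{u}) (p : U ⟶ Y), IsGeomQuot s t p :=
  Glue.exists_isGeomQuot fun x => by
    obtain ⟨V, hV, Y', p', hx, hp', -⟩ := H x
    exact ⟨V, hx, hV, Y', p', hp'⟩

/-- Properties of the quotient map which are local on the target. -/
theorem of_local (P : MorphismProperty Scheme.{u}) [IsZariskiLocalAtTarget P]
    (h : IsGeomQuot s t p) (H : LocallyGood s t (fun _ _ _ p' => P p')) : P p := by
  choose V hV Y' p' hx hp' hP using H
  choose j hj hj1 hj2 using fun x => exists_openImmersion h (V x) (hV x) (hp' x)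
  have : ∀ x, IsOpenImmersion (j x) := hj
  have hcov : ⨆ x, (j x).opensRange = ⊤ := by
    rw [eq_top_iff]
    intro y _
    obtain ⟨x, rfl⟩ := h.surjective y
    rw [Opens.mem_iSup]
    refine ⟨x, ?_⟩
    have h1 : x ∈ p ⁻¹ᵁ (j x).opensRange := by rw [hj2]; exact hx x
    exact h1
  let 𝒰 : Y.OpenCover :=
    { I₀ := U
      X := Y'
      f := j
      mem₀ := by
        rw [Scheme.presieve₀_mem_precoverage_iff]
        refine ⟨fun y => ?_, fun x => hj x⟩
        have : y ∈ ⨆ x, (j x).opensRange := by rw [hcov]; trivial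
        rw [Opens.mem_iSup] at this
        exact this }
  rw [IsZariskiLocalAtTarget.iff_of_openCover (P := P) 𝒰]
  intro x
  have hpb : IsPullback (V x).ι (p' x) p (j x) := isPullback_of_opensRange _ _ _ _ (hj1 x) (by
    rw [hj2, Scheme.Opens.opensRange_ι])
  have he : ((IsPullback.of_hasPullback p (j x)).isoIsPullback _ _ hpb).hom ≫ p' x =
    pullback.snd p (j x) := IsPullback.isoIsPullback_hom_snd ..
  show P (pullback.snd p (j x))
  rw [← he, P.cancel_left_of_respectsIso]
  exact hP x

/-- Surjectivity of `R ⟶ U ×_Y U` is local. -/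
theorem surjective_lift_of_local (h : IsGeomQuot s t p)
    (H : LocallyGood s t (fun V hV _ p' => ∃ w : tRes s t V hV ≫ p' = (s ∣_ V) ≫ p',
      Function.Surjective (pullback.lift (tRes s t V hV) (s ∣_ V) w))) :
    Function.Surjective (pullback.lift t s h.w) := by
  intro z
  obtain ⟨V, hV, Y', p', hx, hp', w, hsurj⟩ := H (pullback.fst p p z)
  obtain ⟨j, hj, hj1, hj2⟩ := exists_openImmersion h V hV hp'
  let k : pullback p' p' ⟶ pullback p p := pullback.map p' p' p p V.ι V.ι j hj1 hj1
  have hz : z ∈ Set.range k := by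
    rw [Scheme.Pullback.range_map]
    refine ⟨?_, ?_⟩
    · show pullback.fst p p z ∈ Set.range V.ι
      rw [Scheme.Opens.range_ι]
      exact hx
    · show pullback.snd p p z ∈ Set.range V.ι
      rw [Scheme.Opens.range_ι, ← hj2]
      show p (pullback.snd p p z) ∈ j.opensRange
      rw [← Scheme.Hom.comp_apply, ← pullback.condition, Scheme.Hom.comp_apply]
      have : pullback.fst p p z ∈ p ⁻¹ᵁ j.opensRange := by rw [hj2]; exact hx
      exact this
  obtain ⟨z', rfl⟩ := hz
  obtain ⟨r, rfl⟩ := hsurj z'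
  refine ⟨(s ⁻¹ᵁ V).ι r, ?_⟩
  rw [← Scheme.Hom.comp_apply, ← Scheme.Hom.comp_apply]
  have : (s ⁻¹ᵁ V).ι ≫ pullback.lift t s h.w =
      pullback.lift (tRes s t V hV) (s ∣_ V) w ≫ k := by
    apply pullback.hom_ext
    · simp only [Category.assoc, pullback.lift_fst, k, pullback.map, pullback.lift_fst_assoc]
      rw [tRes_ι_hom]
    · simp only [Category.assoc, pullback.lift_snd, k, pullback.map, pullback.lift_snd_assoc]
      rw [morphismRestrict_ι]
  rw [this]

/-- The square `t, s, p, p` is cartesian if this holds locally. -/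
theorem isPullback_of_local (h : IsGeomQuot s t p)
    (H : LocallyGood s t (fun V hV _ p' => IsPullback (tRes s t V hV) (s ∣_ V) p' p')) :
    IsPullback t s p p := by
  have key : IsIso (pullback.lift t s h.w) := by
    choose V hV Y' p' hx hp' hP using H
    choose j hj hj1 hj2 using fun x => exists_openImmersion h (V x) (hV x) (hp' x)
    have : ∀ x, IsOpenImmersion (j x) := hj
    let k : ∀ x, pullback (p' x) (p' x) ⟶ pullback p p := fun x =>
      pullback.map (p' x) (p' x) p p (V x).ι (V x).ι (j x) (hj1 x) (hj1 x)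
    have hk : ∀ x, IsOpenImmersion (k x) := fun x => inferInstance
    have hkr : ∀ x z, z ∈ (k x).opensRange ↔ pullback.fst p p z ∈ V x := by
      intro x z
      show z ∈ Set.range (k x) ↔ _
      rw [Scheme.Pullback.range_map, Set.mem_inter_iff, Set.mem_preimage, Set.mem_preimage,
        Scheme.Opens.range_ι]
      refine ⟨fun hh => hh.1, fun hh => ⟨hh, ?_⟩⟩
      rw [← hj2]
      show p (pullback.snd p p z) ∈ (j x).opensRange
      rw [← Scheme.Hom.comp_apply, ← pullback.condition, Scheme.Hom.comp_apply]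
      have : pullback.fst p p z ∈ p ⁻¹ᵁ (j x).opensRange := by rw [hj2]; exact hh
      exact this
    let 𝒰 : (pullback p p).OpenCover :=
      { I₀ := U
        X := fun x => pullback (p' x) (p' x)
        f := k
        mem₀ := by
          rw [Scheme.presieve₀_mem_precoverage_iff]
          refine ⟨fun z => ⟨pullback.fst p p z, ?_⟩, fun x => hk x⟩
          have := (hkr (pullback.fst p p z) z).2 (hx _)
          exact this }
    change MorphismProperty.isomorphisms Scheme.{u} (pullback.lift t s h.w)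
    rw [IsZariskiLocalAtTarget.iff_of_openCover (P := MorphismProperty.isomorphisms Scheme.{u}) 𝒰]
    intro x
    have hsq : pullback.lift (tRes s t (V x) (hV x)) (s ∣_ (V x)) (hP x).w ≫ k x =
        (s ⁻¹ᵁ (V x)).ι ≫ pullback.lift t s h.w := by
      apply pullback.hom_ext
      · simp only [Category.assoc, pullback.lift_fst, k, pullback.map, pullback.lift_fst_assoc]
        rw [tRes_ι_hom]
      · simp only [Category.assoc, pullback.lift_snd, k, pullback.map, pullback.lift_snd_assoc]
        rw [morphismRestrict_ι]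
    have hpb : IsPullback (s ⁻¹ᵁ (V x)).ι
        (pullback.lift (tRes s t (V x) (hV x)) (s ∣_ (V x)) (hP x).w)
        (pullback.lift t s h.w) (k x) := isPullback_of_opensRange _ _ _ _ hsq (by
      ext r
      rw [Scheme.Opens.opensRange_ι, hV]
      show (pullback.lift t s h.w) r ∈ (k x).opensRange ↔ t r ∈ V x
      rw [hkr, ← Scheme.Hom.comp_apply, pullback.lift_fst])
    have he : ((IsPullback.of_hasPullback (pullback.lift t s h.w) (k x)).isoIsPullback _ _ hpb).hom ≫
        pullback.lift (tRes s t (V x) (hV x)) (s ∣_ (V x)) (hP x).w =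
      pullback.snd (pullback.lift t s h.w) (k x) := IsPullback.isoIsPullback_hom_snd ..
    show MorphismProperty.isomorphisms Scheme.{u} (pullback.snd (pullback.lift t s h.w) (k x))
    rw [← he, (MorphismProperty.isomorphisms Scheme.{u}).cancel_left_of_respectsIso]
    have he2 : pullback.lift (tRes s t (V x) (hV x)) (s ∣_ (V x)) (hP x).w =
        (hP x).isoPullback.hom := by
      apply pullback.hom_ext
      · rw [pullback.lift_fst, IsPullback.isoPullback_hom_fst]
      · rw [pullback.lift_snd, IsPullback.isoPullback_hom_snd]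
    rw [he2]
    exact inferInstanceAs (IsIso _)
  exact IsPullback.of_iso_pullback ⟨h.w⟩ (asIso (pullback.lift t s h.w))
    (pullback.lift_fst _ _ _) (pullback.lift_snd _ _ _)

end Groth.Agent.GrpQ.H765.GlueProps
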